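import Cfsg.Agent.Lib.MinIndexPSL.Orbit

/-!
The minimal index of a proper subgroup of `SL_n(q)` and `PSL_n(q)`, `n ≥ 3`, `(n, q) ≠ (4, 2)`.
-/

set_option autoImplicit false
set_option linter.unusedSectionVars false
set_option linter.unusedSimpArgs false

namespace CfsgLib.MinIndexPSL

open Matrix
open scoped LinearAlgebra.Projectivization

variable {F : Type*} [Field F] {N : ℕ} [Finite F]

local notation "G" => Matrix.SpecialLinearGroup (Fin (N + 1)) F
local notation "bound" => ∑ i ∈ Finset.range (N + 1), Nat.card F ^ i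

theorem exists_addChar_ne_one (F : Type*) [Field F] [Finite F] : ∃ χ : AddChar F ℂ, χ ≠ 1 := by
  obtain ⟨χ, hχ⟩ := AddChar.exists_apply_ne_zero.2 (one_ne_zero : (1 : F) ≠ 0)
  exact ⟨χ, fun h => hχ (by rw [h]; rfl)⟩

theorem exists_ne_zero_dot {v : Fin N → F} (hv : v ≠ 0) : ∃ φ : Fin N → F, φ ⬝ᵥ v ≠ 0 := by
  obtain ⟨i, hi⟩ : ∃ i, v i ≠ 0 := by
    by_contra hh; push Not at hh; exact hv (funext hh)
  exact ⟨Pi.single i 1, by rwa [single_dotProduct, one_mul]⟩

/-- A point fixed by every elation belongs to no moved configuration; some point moves. -/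
theorem exists_moved (hN : 2 ≤ N) (H : Subgroup G) (hH : H ≠ ⊤) :
    ∃ ω : G ⧸ H, stabEl H ω ≠ ⊤ := by
  have : Nontrivial (Fin (N + 1)) := Fin.nontrivial_iff_two_le.2 (by omega)
  by_contra h
  push Not at h
  have hker : el (Pi.single ⟨0, by omega⟩ 1 : Fin N → F) ∈ H.normalCore := by
    rw [Subgroup.normalCore_eq_ker, MonoidHom.mem_ker]
    refine Equiv.ext fun ω => ?_
    exact (mem_stabEl H).1 (h ω ▸ AddSubgroup.mem_top _)
  rcases CfsgLib.Linear.SL_normal_le_center_or_eq_top (n := Fin (N + 1)) (F := F)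
    (Or.inl (by simp; omega)) H.normalCore with hc | ht
  · obtain ⟨r, -, hr⟩ := Matrix.SpecialLinearGroup.mem_center_iff.1 (hc hker)
    have h' := congrFun (congrFun hr 0) (Fin.succ ⟨0, by omega⟩)
    simp only [scalar_apply, ne_eq, (Fin.succ_ne_zero (⟨0, by omega⟩ : Fin N)).symm,
      not_false_eq_true, diagonal_apply_ne, el, tv_coe, e0, Matrix.add_apply, vecMulVec_apply,
      one_apply_ne, zero_add, Fin.cons_zero, Fin.cons_succ, Pi.single_eq_same, one_mul] at h'
    exact zero_ne_one h'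
  · exact hH (top_le_iff.1 (ht ▸ H.normalCore_le))

section regular


/-- All elation stabilisers trivial and one orbit: excluded by the shape of complements. -/
theorem false_of_regular (H : Subgroup G) (hN : 2 ≤ N) (hexc : ¬ (N = 3 ∧ Nat.card F = 2))
    (hreg : ∀ ω : G ⧸ H, stabEl H ω = ⊥)
    (htrans : ∀ ω ω' : G ⧸ H, ∃ φ : Fin N → F, el φ • ω = ω') : False := by
  classical
  have hnt : Nontrivial (Fin N) := Fin.nontrivial_iff_two_le.2 hN
  -- no transvection lies in `H`
  have hno : ∀ (w φ : Fin (N + 1) → F) (h : φ ⬝ᵥ w = 0), tv w φ h ∈ H → w = 0 ∨ φ = 0 := by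
    intro w φ h hmem
    by_contra hne
    push Not at hne
    have : Nontrivial (Fin (N + 1)) := Fin.nontrivial_iff_two_le.2 (by omega)
    obtain ⟨g, hg⟩ := exists_mulVec_eq hne.1 (e0_ne_zero (F := F) (N := N))
    have hconj : g * tv w φ h * g⁻¹ = el (Fin.tail (φ ᵥ* (g⁻¹).1)) := by
      rw [tv_conj, ← tv_e0_eq_el _ (by rw [← hg, vecMul_inv_dotProduct_mulVec, h])]
      exact tv_congr hg rfl
    have hfix : Fin.tail (φ ᵥ* (g⁻¹).1) ∈ stabEl H ((g : G) • ((1 : G) : G ⧸ H)) := by
      rw [mem_stabEl, ← hconj, ← mul_smul, inv_mul_cancel_right, mul_smul, smul_left_cancel_iff]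
      rw [MulAction.Quotient.smul_coe, smul_eq_mul, mul_one]
      exact QuotientGroup.eq.2 (by rw [mul_one]; exact H.inv_mem hmem)
    rw [hreg, AddSubgroup.mem_bot] at hfix
    have h1 : g * tv w φ h * g⁻¹ = 1 := by rw [hconj, hfix, el_zero]
    have h2 : tv w φ h = 1 := by
      calc tv w φ h = g⁻¹ * (g * tv w φ h * g⁻¹) * g := by group
        _ = 1 := by rw [h1]; group
    obtain ⟨i, hi⟩ : ∃ i, w i ≠ 0 := by
      by_contra hh; push Not at hh; exact hne.1 (funext hh)
    refine hne.2 (funext fun j => ?_)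
    have := congrFun (congrFun (congrArg Subtype.val h2) i) j
    simp [tv_coe, vecMulVec_apply, cone] at this
    exact this.resolve_left hi
  -- the complement to `Q` in `Q ⋊ L`
  have hex : ∀ A : SpecialLinearGroup (Fin N) F, ∃ φ, el φ * lev A ∈ H := by
    intro A
    obtain ⟨φ, hφ⟩ := htrans (((lev A : G) : G ⧸ H)) ((1 : G) : G ⧸ H)
    refine ⟨φ, ?_⟩
    rw [MulAction.Quotient.smul_coe, smul_eq_mul] at hφ
    have := QuotientGroup.eq.1 hφ.symm
    simpa using this
  choose f hf using hex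
  have huniq : ∀ A φ, el φ * lev A ∈ H → φ = f A := by
    intro A φ hφ
    have hmem : el (φ - f A) ∈ H := by
      have := H.mul_mem hφ (H.inv_mem (hf A))
      rwa [_root_.mul_inv_rev, mul_assoc, mul_inv_cancel_left, el_inv, el_mul,
        ← sub_eq_add_neg] at this
    have h0 : φ - f A ∈ stabEl H ((1 : G) : G ⧸ H) := by
      rw [mem_stabEl, MulAction.Quotient.smul_coe, smul_eq_mul, mul_one]
      exact QuotientGroup.eq.2 (by rw [mul_one]; exact H.inv_mem hmem)
    rw [hreg, AddSubgroup.mem_bot, sub_eq_zero] at h0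
    exact h0
  have hcoc : ∀ A B, f (A * B) = f A + f B ᵥ* (A⁻¹).1 := by
    intro A B
    refine (huniq _ _ ?_).symm
    have hc := lev_conj_el A (f B)
    have := H.mul_mem (hf A) (hf B)
    rwa [show el (f A) * lev A * (el (f B) * lev B) =
      el (f A) * (lev A * el (f B) * (lev A)⁻¹) * (lev A * lev B) by group,
      hc, el_mul, ← map_mul] at this
  -- the action of elementary transvections
  let T : ∀ {a b : Fin N}, a ≠ b → F → SpecialLinearGroup (Fin N) F := fun h s =>
    SpecialLinearGroup.transvection h s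
  have hvm : ∀ {a b : Fin N} (h : a ≠ b) (s : F) (φ : Fin N → F),
      φ ᵥ* ((T h s)⁻¹).1 = φ + Pi.single b (-(φ a * s)) := by
    intro a b h s φ
    show φ ᵥ* ((Matrix.SpecialLinearGroup.transvection h s)⁻¹).1 = _
    rw [SpecialLinearGroup.transvection_inv, transvection_eq_tv, tv_vecMul]
    congr 1
    ext j
    by_cases hj : j = b <;> simp [hj, dotProduct_single]
  have hcomm : ∀ x y, x * y = y * x → f x + f y ᵥ* (x⁻¹).1 = f y + f x ᵥ* (y⁻¹).1 :=
    fun x y h => by rw [← hcoc, ← hcoc, h]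
  -- some `f (T a b)` is a multiple of `ε_b`
  suffices ∃ (a b : Fin N) (h : a ≠ b), ∀ j, j ≠ b → f (T h 1) j = 0 by
    obtain ⟨a, b, hab, hj⟩ := this
    set β := f (T hab 1) b
    have hfeq : f (T hab 1) = Pi.single b β := by
      ext j; by_cases h : j = b
      · subst h; simp [β]
      · simp [h, hj j h]
    have hprod : el (f (T hab 1)) * lev (T hab 1) =
        tv (Fin.cons β (Pi.single a 1)) (Fin.cons 0 (Pi.single b 1))
          (by rw [dotProduct_cons]; simp [dotProduct_single, hab]) := by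
      rw [hfeq]
      apply Subtype.ext
      have hT : (Pi.single b β : Fin N → F) ᵥ* (T hab 1).1 = Pi.single b β := by
        show Pi.single b β ᵥ* (Matrix.SpecialLinearGroup.transvection hab 1).1 = _
        rw [transvection_eq_tv, tv_vecMul, dotProduct_single, Pi.single_eq_of_ne hab]
        simp
      rw [cmul, lev_coe, el, tv_coe, tv_coe, add_mul, one_mul, vecMulVec_mul, vecMul_levMat, hT]
      ext i j
      cases i using Fin.cases with
      | zero =>
        cases j using Fin.cases with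
        | zero => simp [levMat, e0, vecMulVec_apply]
        | succ j =>
          rcases eq_or_ne j b with rfl | hj <;>
            simp [levMat, e0, vecMulVec_apply, one_apply, (Fin.succ_ne_zero _).symm, *]
      | succ i =>
        cases j using Fin.cases with
        | zero => simp [levMat, e0, vecMulVec_apply, one_apply, Fin.succ_ne_zero]
        | succ j =>
          simp only [levMat, e0, Matrix.add_apply, vecMulVec_apply, Matrix.of_apply, Fin.cons_succ,
            T, SpecialLinearGroup.transvection_coe, one_apply, Fin.succ_inj, Pi.zero_apply]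
          rcases eq_or_ne i a with rfl | hi <;> rcases eq_or_ne j b with rfl | hj <;> simp [*, Ne.symm]
    rcases hno _ _ _ (hprod ▸ hf (T hab 1)) with h | h
    · simpa using congrFun h a.succ
    · simpa using congrFun h b.succ
  rcases Nat.lt_or_ge N 3 with hN3 | hN3
  · -- `N = 2`
    obtain rfl : N = 2 := by omega
    have h01 : (0 : Fin 2) ≠ 1 := by decide
    refine ⟨0, 1, h01, fun j hj => ?_⟩
    obtain rfl : j = 0 := by omega
    by_cases h2 : (2 : F) = 0
    · have hx2 : T h01 1 * T h01 1 = 1 := by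
        show SpecialLinearGroup.transvection h01 1 * SpecialLinearGroup.transvection h01 1 = 1
        rw [← SpecialLinearGroup.transvection_add, one_add_one_eq_two, h2,
          SpecialLinearGroup.transvection_coeff_zero]
      have h1 : f 1 = 0 := by
        have := hcoc 1 1
        rw [mul_one, inv_one, cone, vecMul_one] at this
        simpa using this
      have := congrFun (hcoc (T h01 1) (T h01 1)) 1
      rw [hx2, h1, hvm] at this
      simp at this
      linear_combination this + (f (T h01 1) 1) * h2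
    · let z : SpecialLinearGroup (Fin 2) F := ⟨-1, by simp [det_fin_two]⟩
      have hz : T h01 1 * z = z * T h01 1 := Subtype.ext (by rw [cmul, cmul]; simp [z])
      have hzi : z⁻¹ = z := inv_eq_of_mul_eq_one_right (Subtype.ext (by rw [cmul, cone]; simp [z]))
      have := congrFun (hcomm _ _ hz) 0
      rw [hvm, hzi] at this
      simp [z, vecMul_neg] at this
      exact (mul_eq_zero.1 (show (2 : F) * f (T h01 1) 0 = 0 by linear_combination this)).resolve_left h2
  -- `N ≥ 3`
  have hA : ∀ {a b : Fin N} (h : a ≠ b) (s : F), f (T h s) a = 0 := by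
    intro a b hab s
    obtain ⟨c, hca, hcb⟩ : ∃ c : Fin N, c ≠ a ∧ c ≠ b := by
      obtain ⟨c, -, hc⟩ := Finset.exists_mem_notMem_of_card_lt_card
        (lt_of_le_of_lt (Finset.card_le_two (a := a) (b := b))
          (by simp; omega : 2 < (Finset.univ : Finset (Fin N)).card))
      simp only [Finset.mem_insert, Finset.mem_singleton, not_or] at hc
      exact ⟨c, hc⟩
    have hxy : T hab s * T hca.symm 1 = T hca.symm 1 * T hab s := Subtype.ext (by
      simp [T, cmul, SpecialLinearGroup.transvection_coe, mul_add, add_mul,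
        single_mul_single_of_ne _ _ _ _ hab.symm, single_mul_single_of_ne _ _ _ _ hca,
        add_comm, add_left_comm])
    have := congrFun (hcomm _ _ hxy) c
    rw [hvm, hvm] at this
    simp [hcb] at this
    linear_combination this
  have hC : ∀ {a b c d : Fin N} (hab : a ≠ b) (hcd : c ≠ d) (s r : F), b ≠ c → d ≠ a →
      ∀ j, (if j = b then f (T hcd r) a * s else 0) = if j = d then f (T hab s) c * r else 0 := by
    intro a b c d hab hcd s r hbc hda j
    have hxy : T hab s * T hcd r = T hcd r * T hab s := Subtype.ext (by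
      simp [T, cmul, SpecialLinearGroup.transvection_coe, mul_add, add_mul,
        single_mul_single_of_ne _ _ _ _ hbc, single_mul_single_of_ne _ _ _ _ hda,
        add_comm, add_left_comm])
    have := congrFun (hcomm _ _ hxy) j
    rw [hvm, hvm] at this
    simp only [Pi.add_apply, Pi.single_apply] at this
    split_ifs at this ⊢ <;> linear_combination -this
  rcases Nat.lt_or_ge N 4 with hN4 | hN4
  swap
  · obtain ⟨a, b, hab⟩ := exists_pair_ne (Fin N)
    refine ⟨a, b, hab, fun c hcb => ?_⟩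
    by_cases hca : c = a
    · exact hca ▸ hA hab 1
    obtain ⟨d, -, hd⟩ := Finset.exists_mem_notMem_of_card_lt_card
      (lt_of_le_of_lt (Finset.card_le_three (a := a) (b := b) (c := c))
        (by simp; omega : 3 < (Finset.univ : Finset (Fin N)).card))
    simp only [Finset.mem_insert, Finset.mem_singleton, not_or] at hd
    have := hC hab (Ne.symm hd.2.2) 1 1 (Ne.symm hcb) hd.1 d
    simpa [hd.2.1] using this.symm
  obtain rfl : N = 3 := by omega
  have hab : (0 : Fin 3) ≠ 1 := by decide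
  have hac : (0 : Fin 3) ≠ 2 := by decide
  have hcb : (2 : Fin 3) ≠ 1 := by decide
  refine ⟨0, 1, hab, fun j hj => ?_⟩
  fin_cases j
  · exact hA hab 1
  · exact absurd rfl hj
  show f (T hab 1) 2 = 0
  by_cases h2 : (2 : F) = 0
  · -- a torus element
    obtain ⟨t, ht0, ht1⟩ : ∃ t : F, t ≠ 0 ∧ t ≠ 1 := by
      by_contra h
      push Not at h
      have : Fintype F := Fintype.ofFinite F
      apply hexc
      refine ⟨rfl, ?_⟩
      classical
      have hu : (Finset.univ : Finset F) = {0, 1} := by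
        ext x; by_cases hx : x = 0 <;> simp [hx, h]
      rw [Nat.card_eq_fintype_card, ← Finset.card_univ, hu]; simp
    let D : SpecialLinearGroup (Fin 3) F := ⟨diagonal ![t⁻¹, t⁻¹, t ^ 2], by
      simp [det_diagonal, Fin.prod_univ_three]; field_simp⟩
    let D' : SpecialLinearGroup (Fin 3) F := ⟨diagonal ![t, t, (t ^ 2)⁻¹], by
      simp [det_diagonal, Fin.prod_univ_three]; field_simp⟩
    have hD : D⁻¹ = D' := inv_eq_of_mul_eq_one_right (Subtype.ext (by
      rw [cmul, cone]
      simp only [D, D', diagonal_mul_diagonal]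
      rw [← diagonal_one]; congr 1
      ext i; fin_cases i <;> simp [ht0]))
    have hxy : T hab 1 * D = D * T hab 1 := Subtype.ext (by
      rw [cmul, cmul]
      ext i j
      fin_cases i <;> fin_cases j <;>
        simp [T, D, cmul, SpecialLinearGroup.transvection_coe, Matrix.mul_apply,
          Fin.sum_univ_three])
    have := congrFun (hcomm _ _ hxy) 2
    rw [hvm, hD] at this
    simp [D', vecMul_diagonal] at this
    have ht : (t ^ 2)⁻¹ ≠ 1 := by
      intro h
      rw [inv_eq_one] at h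
      exact ht1 (sub_eq_zero.1 (pow_eq_zero_iff (n := 2) two_ne_zero |>.1
        (by linear_combination h + (1 - t) * h2)))
    exact (mul_eq_zero.1 (show ((t ^ 2)⁻¹ - 1) * f (T hab 1) 2 = 0 by
      linear_combination -this)).resolve_left (sub_ne_zero.2 ht)
  · have e : ∀ s r : F, f (T hcb r) 0 * s = f (T hab s) 2 * r := fun s r => by
      simpa using hC hab hcb s r (by decide) (by decide) 1
    have hc : T hac 1 * T hcb 1 = T hab 1 * (T hcb 1 * T hac 1) := Subtype.ext (by
      ext i j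
      fin_cases i <;> fin_cases j <;>
        simp [T, cmul, SpecialLinearGroup.transvection_coe, Matrix.mul_apply,
          Fin.sum_univ_three])
    have := congrArg f hc
    rw [hcoc, hcoc, hcoc, hvm, hvm, hvm] at this
    have := congrFun this 2
    simp at this
    have e1 := e 1 1
    have hz : (2 : F) * f (T hab 1) 2 = 0 := by linear_combination -this - e1
    exact (mul_eq_zero.1 hz).resolve_left h2

end regular

/-- All elation stabilisers hyperplanes: impossible. -/
theorem false_of_lineType (hN : 2 ≤ N) (H : Subgroup G)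
    (hline : ∀ ω : G ⧸ H, ∃ v : Fin N → F, v ≠ 0 ∧ ∀ φ, φ ∈ stabEl H ω ↔ φ ⬝ᵥ v = 0) : False := by
  have : Nontrivial (Fin (N + 1)) := Fin.nontrivial_iff_two_le.2 (by omega)
  -- the centre line of each point
  have hM : ∀ p : Fin (N + 1) → F, p ≠ 0 → ∃ m, m ∉ Submodule.span F {p} ∧
      ∀ (φ : Fin (N + 1) → F) (h : φ ⬝ᵥ p = 0), tv p φ h ∈ H ↔ φ ⬝ᵥ m = 0 := by
    intro p hp
    obtain ⟨g, rfl⟩ := exists_mulVec_eq (e0_ne_zero (F := F) (N := N)) hp
    obtain ⟨v, hv, hvs⟩ := hline ((g⁻¹ : G) : G ⧸ H)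
    refine ⟨g.1 *ᵥ Fin.cons 0 v, ?_, fun φ h => ?_⟩
    · intro hm
      obtain ⟨c, hc⟩ := Submodule.mem_span_singleton.1 hm
      rw [← mulVec_smul] at hc
      have h' := mulVec_injective g hc
      exact hv (funext fun i => by simpa [e0] using (congrFun h' i.succ).symm)
    · have h0 : (φ ᵥ* g.1) ⬝ᵥ e0 F N = 0 := by rw [← dotProduct_mulVec]; exact h
      have hel : g⁻¹ * tv (g.1 *ᵥ e0 F N) φ h * g = el (Fin.tail (φ ᵥ* g.1)) := by
        have hc := tv_conj g⁻¹ (g.1 *ᵥ e0 F N) φ h
        simp only [inv_inv] at hc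
        rw [hc, ← tv_e0_eq_el _ h0]
        exact tv_congr (inv_mulVec_mulVec g _) rfl
      have hiff : Fin.tail (φ ᵥ* g.1) ∈ stabEl H ((g⁻¹ : G) : G ⧸ H) ↔
          tv (g.1 *ᵥ e0 F N) φ h ∈ H := by
        rw [mem_stabEl, MulAction.Quotient.smul_coe, smul_eq_mul, QuotientGroup.eq, ← hel]
        simp [mul_assoc]
      rw [← hiff, hvs, dotProduct_mulVec]
      have hz : (φ ᵥ* g.1) 0 = 0 := by simpa [e0, dotProduct, Fin.sum_univ_succ] using h0
      conv_rhs => rw [← Fin.cons_self_tail (φ ᵥ* g.1), dotProduct_cons, hz]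
      simp
  choose m hm hmem using hM
  let M : ∀ p : Fin (N + 1) → F, p ≠ 0 → Submodule F (Fin (N + 1) → F) := fun p hp =>
    Submodule.span F {p, m p hp}
  have hperp : ∀ {p : Fin (N + 1) → F} {hp : p ≠ 0} {φ : Fin (N + 1) → F}, φ ⬝ᵥ p = 0 →
      φ ⬝ᵥ m p hp = 0 → ∀ x ∈ M p hp, φ ⬝ᵥ x = 0 := by
    intro p hp φ h1 h2 x hx
    obtain ⟨a, b, rfl⟩ := Submodule.mem_span_pair.1 hx
    rw [dotProduct_add, dotProduct_smul, dotProduct_smul, h1, h2, smul_zero, smul_zero, add_zero]
  have hpM : ∀ p hp, p ∈ M p hp := fun p hp => Submodule.subset_span (by simp)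
  have hmM : ∀ p hp, m p hp ∈ M p hp := fun p hp => Submodule.subset_span (by simp)
  -- conjugation
  have hconj : ∀ {p q φ ψ : Fin (N + 1) → F} (hq : q ≠ 0) (hφ : φ ⬝ᵥ p = 0) (hψ : ψ ⬝ᵥ q = 0),
      tv p φ hφ ∈ H → tv q ψ hψ ∈ H → φ ⬝ᵥ q = 0 →
      (ψ - (ψ ⬝ᵥ p) • φ) ⬝ᵥ m q hq = 0 := by
    intro p q φ ψ hq hφ hψ hs ht hpq
    have h := H.mul_mem (H.mul_mem hs ht) (H.inv_mem hs)
    rw [tv_conj] at h
    have hd : (ψ - (ψ ⬝ᵥ p) • φ) ⬝ᵥ q = 0 := by
      rw [sub_dotProduct, smul_dotProduct, hψ, hpq, smul_zero, sub_zero]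
    refine (hmem q hq _ hd).1 ?_
    rwa [tv_congr (h' := hd) (by rw [tv_mulVec, hpq, zero_smul, add_zero])
      (by rw [tv_inv, tv_vecMul, smul_neg, ← sub_eq_add_neg])] at h
  -- two points of a centre line have the same line
  have hpair : ∀ {x y u w : Fin (N + 1) → F}, x ∈ Submodule.span F {u, w} →
      y ∈ Submodule.span F {u, w} → x ≠ 0 → y ∉ Submodule.span F {x} →
      Submodule.span F {x, y} = Submodule.span F {u, w} := by
    intro x y u w hx hy hx0 hy0
    classical
    refine Submodule.eq_of_le_of_finrank_le (Submodule.span_le.2 ?_) ?_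
    · rintro z (rfl | rfl) <;> assumption
    · have h1 : LinearIndependent F ![x, y] := by
        rw [LinearIndependent.pair_iff' hx0]
        exact fun a ha => hy0 (Submodule.mem_span_singleton.2 ⟨a, ha⟩)
      have h2 : Module.finrank F (Submodule.span F ({u, w} : Set (Fin (N + 1) → F))) ≤ 2 :=
        (finrank_span_le_card _).trans (by
          rw [Set.toFinset_insert, Set.toFinset_singleton]; exact Finset.card_le_two)
      have h3 := finrank_span_eq_card h1
      have hset : Set.range ![x, y] = {x, y} := by simp [Matrix.range_cons, Set.pair_comm]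
      rw [hset, Fintype.card_fin] at h3
      omega
  have hsame : ∀ (p : Fin (N + 1) → F) (hp : p ≠ 0) (q : Fin (N + 1) → F) (hq : q ≠ 0),
      q ∈ M p hp → M q hq = M p hp := by
    intro p hp q hq hqM
    by_cases hqp : q ∈ Submodule.span F {p}
    · obtain ⟨c, rfl⟩ := Submodule.mem_span_singleton.1 hqp
      have hc : c ≠ 0 := fun h => hq (by rw [h, zero_smul])
      have hqM' : m (c • p) hq ∈ M p hp := by
        by_contra hno
        obtain ⟨φ, h1, h0⟩ := sep _ hno
        have hφ : φ ⬝ᵥ p = 0 := h0 _ (hpM p hp)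
        have hφc : (c⁻¹ • φ) ⬝ᵥ (c • p) = 0 := by
          rw [smul_dotProduct, dotProduct_smul, hφ, smul_zero, smul_zero]
        have hs := (hmem p hp φ hφ).2 (h0 _ (hmM p hp))
        have heq : tv (c • p) (c⁻¹ • φ) hφc = tv p φ hφ := by
          rw [tv_smul_left c p (c⁻¹ • φ) hφc (by rw [smul_smul, mul_inv_cancel₀ hc, one_smul, hφ])]
          exact tv_congr rfl (by rw [smul_smul, mul_inv_cancel₀ hc, one_smul])
        have := (hmem _ hq _ hφc).1 (heq ▸ hs)
        rw [smul_dotProduct, h1, smul_eq_mul, mul_one] at this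
        exact inv_ne_zero hc this
      exact hpair ((M p hp).smul_mem _ (hpM p hp)) hqM' hq (hm _ hq)
    · have hpq : p ∈ M q hq := by
        by_contra hno
        obtain ⟨ψ, h1, h0⟩ := sep _ hno
        have ht := (hmem q hq ψ (h0 _ (hpM q hq))).2 (h0 _ (hmM q hq))
        have hmq : m q hq ∈ M p hp := by
          by_contra hno2
          obtain ⟨φ, g1, g0⟩ := sep _ hno2
          have hs := (hmem p hp φ (g0 _ (hpM p hp))).2 (g0 _ (hmM p hp))
          have := hconj hq (g0 _ (hpM p hp)) (h0 _ (hpM q hq)) hs ht (g0 _ hqM)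
          rw [h1, one_smul, sub_dotProduct, h0 _ (hmM q hq), g1] at this
          simp at this
        refine hno ?_
        show p ∈ Submodule.span F {q, m q hq}
        rw [hpair hqM hmq hq (hm q hq)]
        exact hpM p hp
      have hqp' : p ∉ Submodule.span F {q} := fun h => hqp (by
        obtain ⟨a, rfl⟩ := Submodule.mem_span_singleton.1 h
        have ha : a ≠ 0 := fun h => hp (by rw [h, zero_smul])
        exact Submodule.mem_span_singleton.2 ⟨a⁻¹, by rw [smul_smul, inv_mul_cancel₀ ha, one_smul]⟩)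
      show M q hq = M p hp
      exact (hpair (hpM q hq) hpq hq hqp').symm.trans (hpair hqM (hpM p hp) hq hqp')
  -- two different lines give a contradiction
  obtain ⟨p, hp⟩ : ∃ p : Fin (N + 1) → F, p ≠ 0 := ⟨_, e0_ne_zero⟩
  obtain ⟨q, hqM⟩ : ∃ q, q ∉ M p hp := by
    by_contra h
    push Not at h
    have htop : M p hp = ⊤ := eq_top_iff.2 fun x _ => h x
    classical
    have h2 : Module.finrank F (M p hp) ≤ 2 :=
      (finrank_span_le_card _).trans (by
        rw [Set.toFinset_insert, Set.toFinset_singleton]; exact Finset.card_le_two)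
    rw [htop, finrank_top, Module.finrank_fin_fun] at h2
    omega
  have hq : q ≠ 0 := fun h => hqM (h ▸ Submodule.zero_mem _)
  set u := m q hq
  have hno : q ∉ M p hp ⊔ Submodule.span F {u} := by
    intro h
    obtain ⟨x, hx, y, hy, hxy⟩ := Submodule.mem_sup.1 h
    obtain ⟨c, rfl⟩ := Submodule.mem_span_singleton.1 hy
    by_cases hx0 : x = 0
    · rw [hx0, zero_add] at hxy
      have hc : c ≠ 0 := fun h0 => hq (by rw [← hxy, h0, zero_smul])
      exact hm q hq (Submodule.mem_span_singleton.2 ⟨c⁻¹, by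
        have := congrArg (c⁻¹ • ·) hxy
        simpa [smul_smul, hc] using this.symm⟩)
    · have hxq : x ∈ M q hq := by
        rw [show x = q - c • u by rw [← hxy, add_sub_cancel_right]]
        exact (M q hq).sub_mem (hpM q hq) ((M q hq).smul_mem _ (hmM q hq))
      have := (hsame q hq x hx0 hxq).symm.trans (hsame p hp x hx0 hx)
      exact hqM (this ▸ hpM q hq)
  obtain ⟨φ, hφq, hφ0⟩ := sep _ hno
  have hφp : φ ⬝ᵥ p = 0 := hφ0 _ (Submodule.mem_sup_left (hpM p hp))
  have hφu : φ ⬝ᵥ u = 0 := hφ0 _ (Submodule.mem_sup_right (Submodule.mem_span_singleton_self u))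
  have hs := (hmem p hp φ hφp).2 (hφ0 _ (Submodule.mem_sup_left (hmM p hp)))
  have hu : u ≠ 0 := fun h => hm q hq (by rw [show m q hq = u from rfl, h]; exact Submodule.zero_mem _)
  have hMu : M u hu = M q hq := hsame q hq u hu (hmM q hq)
  have hpMq : p ∈ M q hq := by
    by_contra hno'
    obtain ⟨ψ, h1, h0⟩ := sep _ hno'
    have ht := (hmem u hu ψ (h0 _ (hmM q hq))).2 (h0 _ (hMu ▸ hmM u hu))
    have hψ := hconj hu hφp (h0 _ (hmM q hq)) hs ht hφu
    have hψu : (ψ - (ψ ⬝ᵥ p) • φ) ⬝ᵥ u = 0 := by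
      rw [sub_dotProduct, smul_dotProduct, show ψ ⬝ᵥ u = 0 from h0 _ (hmM q hq), hφu, smul_zero,
        sub_zero]
    have := hperp hψu hψ q (by rw [hMu]; exact hpM q hq)
    rw [sub_dotProduct, smul_dotProduct, h0 _ (hpM q hq), hφq, h1] at this
    simp at this
  exact hqM ((hsame q hq p hp hpMq).symm.trans (hsame p hp p hp (hpM p hp)) ▸ hpM q hq)

/-- A proper subgroup cannot contain a full elation group below the bound. -/
theorem false_of_fixed (hN : 2 ≤ N) (H : Subgroup G) (hH : H ≠ ⊤) (hd : H.index < bound)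
    (ω : G ⧸ H) (hω : stabEl H ω = ⊤) : False := by
  have : Nontrivial (Fin (N + 1)) := Fin.nontrivial_iff_two_le.2 (by omega)
  obtain ⟨g0, rfl⟩ := QuotientGroup.mk_surjective ω
  let T : Submodule F (Fin (N + 1) → F) :=
    { carrier := {w | ∀ (φ : Fin (N + 1) → F) (h : φ ⬝ᵥ w = 0), tv w φ h ∈ H}
      zero_mem' := fun φ h => by rw [tv_zero_left]; exact H.one_mem
      add_mem' := by
        intro w z hw hz
        by_cases hz0 : z = 0
        · rw [hz0, add_zero]; exact hw
        by_cases hwz : w ∈ Submodule.span F {z}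
        · obtain ⟨c, rfl⟩ := Submodule.mem_span_singleton.1 hwz
          intro φ h
          have e : c • z + z = (c + 1) • z := by rw [add_smul, one_smul]
          rw [tv_congr (h' := by rwa [← e]) e rfl]
          by_cases hc : c + 1 = 0
          · rw [tv_congr (h' := dotProduct_zero φ) (by rw [hc, zero_smul]) rfl, tv_zero_left]
            exact H.one_mem
          · have hzφ : ((c + 1) • φ) ⬝ᵥ z = 0 := by
              rw [smul_dotProduct, ← dotProduct_smul, ← e, h]
            rw [tv_smul_left _ _ _ _ hzφ]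
            exact hz _ hzφ
        · obtain ⟨ψ, hψ, hψw⟩ := exists_tv_mulVec_add hwz
          intro φ h
          have hs := hz ψ hψ
          have hφ' : (φ ᵥ* (tv z ψ hψ).1) ⬝ᵥ w = 0 := by
            rw [← dotProduct_mulVec, hψw, h]
          have := H.mul_mem (H.mul_mem hs (hw _ hφ')) (H.inv_mem hs)
          rw [tv_conj] at this
          rwa [tv_congr (h' := h) hψw (vecMul_vecMul_inv _ _)] at this
      smul_mem' := by
        intro c w hw φ h
        have h' : (c • φ) ⬝ᵥ w = 0 := by rw [smul_dotProduct, ← dotProduct_smul]; exact h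
        rw [tv_smul_left _ _ _ _ h']
        exact hw _ h' }
  -- a nonzero centre
  have hw0 : (g0⁻¹).1 *ᵥ e0 F N ∈ T := by
    intro φ h
    have h' : (φ ᵥ* (g0⁻¹).1) ⬝ᵥ e0 F N = 0 := by rw [← dotProduct_mulVec]; exact h
    have hc : g0 * tv _ φ h * g0⁻¹ = el (Fin.tail (φ ᵥ* (g0⁻¹).1)) := by
      rw [tv_conj, ← tv_e0_eq_el _ h']
      exact tv_congr (mulVec_inv_mulVec g0 _) rfl
    have hfix : Fin.tail (φ ᵥ* (g0⁻¹).1) ∈ stabEl H (g0 : G ⧸ H) := hω ▸ AddSubgroup.mem_top _
    rw [mem_stabEl, ← hc, MulAction.Quotient.smul_coe, smul_eq_mul, inv_mul_cancel_right,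
      QuotientGroup.eq] at hfix
    simpa using hfix
  have hTtop : T ≠ ⊤ := by
    intro h
    refine hH (CfsgLib.Linear.SL_eq_top_of_transvection_mem H fun i j hij c => ?_)
    rw [transvection_eq_tv]
    exact (h ▸ Submodule.mem_top : Pi.single i c ∈ T) _ _
  let K : Subgroup G :=
    { carrier := {g | ∀ x, g.1 *ᵥ x ∈ T ↔ x ∈ T}
      one_mem' := fun x => by rw [cone, one_mulVec]
      mul_mem' := fun {a b} ha hb x => by rw [cmul, ← mulVec_mulVec, ha, hb]
      inv_mem' := fun {a} ha x => by rw [← ha ((a⁻¹).1 *ᵥ x), mulVec_inv_mulVec] }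
  have hmove : ∀ g ∈ H, ∀ x ∈ T, g.1 *ᵥ x ∈ T := by
    intro g hg x hx φ h
    have h' : (φ ᵥ* g.1) ⬝ᵥ x = 0 := by rw [← dotProduct_mulVec]; exact h
    have := H.mul_mem (H.mul_mem hg (hx _ h')) (H.inv_mem hg)
    rw [tv_conj] at this
    rwa [tv_congr (h' := h) rfl (vecMul_vecMul_inv g φ)] at this
  have hHK : H ≤ K := fun g hg x => by
    refine ⟨fun h => ?_, hmove g hg x⟩
    simpa only [inv_mulVec_mulVec] using hmove g⁻¹ (H.inv_mem hg) _ h
  have hKd : K.index < bound := lt_of_le_of_lt (Nat.le_of_dvd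
    (Nat.pos_of_ne_zero Subgroup.index_ne_zero_of_finite) (Subgroup.index_dvd_of_le hHK)) hd
  have he0 := e0_ne_zero (F := F) (N := N)
  have hw0' : (g0⁻¹).1 *ᵥ e0 F N ≠ 0 := mulVec_ne_zero _ he0
  have hK : K ≠ ⊤ := by
    intro h
    refine hTtop (eq_top_iff.2 fun x _ => ?_)
    by_cases hx : x = 0
    · exact hx ▸ T.zero_mem
    obtain ⟨g, rfl⟩ := exists_mulVec_eq hw0' hx
    exact ((h ▸ Subgroup.mem_top g : g ∈ K) _).2 hw0
  -- when an elation stabilises a translate of `T`
  have hstab : ∀ (g : G) (φ : Fin N → F), φ ∈ stabEl K (g : G ⧸ K) ↔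
      ∀ x, (el φ).1 *ᵥ (g.1 *ᵥ x) ∈ T.map (g.1.mulVecLin) ↔ x ∈ T := by
    intro g φ
    rw [mem_stabEl, MulAction.Quotient.smul_coe, smul_eq_mul, eq_comm, QuotientGroup.eq]
    refine forall_congr' fun x => iff_congr ?_ Iff.rfl
    rw [← mul_assoc, cmul, cmul, ← mulVec_mulVec, ← mulVec_mulVec]
    constructor
    · intro h; exact ⟨_, h, mulVec_inv_mulVec g _⟩
    · rintro ⟨y, hy, he⟩
      rw [mulVecLin_apply] at he
      rw [← he, inv_mulVec_mulVec]; exact hy
  obtain ⟨χ, hχ⟩ := exists_addChar_ne_one F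
  have hfix1 : stabEl K (g0 : G ⧸ K) = ⊤ := by
    rw [eq_top_iff]
    intro φ _
    rw [hstab]
    intro x
    rw [el, tv_mulVec]
    constructor
    · rintro ⟨y, hy, he⟩
      rw [mulVecLin_apply] at he
      have hx : x = y - ((Fin.cons 0 φ : Fin (N + 1) → F) ⬝ᵥ (g0.1 *ᵥ x)) • ((g0⁻¹).1 *ᵥ e0 F N) := by
        apply mulVec_injective g0
        show g0.1 *ᵥ x = g0.1 *ᵥ (_ - _)
        rw [mulVec_sub, mulVec_smul, mulVec_inv_mulVec, he, add_sub_cancel_right]
      rw [hx]; exact T.sub_mem hy (T.smul_mem _ hw0)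
    · intro hx
      refine ⟨x + ((Fin.cons 0 φ : Fin (N + 1) → F) ⬝ᵥ (g0.1 *ᵥ x)) • ((g0⁻¹).1 *ᵥ e0 F N),
        T.add_mem hx (T.smul_mem _ hw0), ?_⟩
      rw [mulVecLin_apply, mulVec_add, mulVec_smul, mulVec_inv_mulVec]
  obtain ⟨ω1, hω1⟩ := exists_moved hN K hK
  obtain ⟨g, rfl⟩ := QuotientGroup.mk_surjective ω1
  rcases orbit_cases K χ hχ hN hKd _ hω1 with hreg | hline
  swap
  · obtain ⟨v, hv, hvs⟩ := hline (g0 : G ⧸ K)
    obtain ⟨φ, hφ⟩ := exists_ne_zero_dot hv
    exact hφ ((hvs φ).1 (hfix1 ▸ AddSubgroup.mem_top φ))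
  -- `g T` is a complement of `e₀`
  set U := T.map g.1.mulVecLin
  have heU : e0 F N ∉ U := by
    rintro ⟨w, hw, hwe⟩
    rw [mulVecLin_apply] at hwe
    refine hω1 (eq_top_iff.2 fun φ _ => (hstab g φ).2 fun x => ?_)
    rw [el, tv_mulVec, Submodule.add_mem_iff_left _ (U.smul_mem _ ⟨w, hw, hwe⟩)]
    exact ⟨fun ⟨y, hy, he⟩ => mulVec_injective g he ▸ hy, fun hx => ⟨x, hx, rfl⟩⟩
  have hcompl : U ⊔ Submodule.span F {e0 F N} = ⊤ := by
    by_contra h
    obtain ⟨y, hy⟩ : ∃ y, y ∉ U ⊔ Submodule.span F {e0 F N} := by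
      by_contra h'; push Not at h'; exact h (eq_top_iff.2 fun y _ => h' y)
    obtain ⟨φ, hφy, hφ0⟩ := sep _ hy
    have hφe : φ ⬝ᵥ e0 F N = 0 :=
      hφ0 _ (Submodule.mem_sup_right (Submodule.mem_span_singleton_self _))
    have hmem : Fin.tail φ ∈ stabEl K (g : G ⧸ K) := by
      rw [hstab, ← tv_e0_eq_el φ hφe]
      intro x
      rw [tv_mulVec]
      by_cases hx : g.1 *ᵥ x ∈ U
      · rw [hφ0 _ (Submodule.mem_sup_left hx), zero_smul, add_zero]
        exact ⟨fun _ => by obtain ⟨z, hz, he⟩ := hx; exact mulVec_injective g he ▸ hz, fun _ => hx⟩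
      · refine ⟨fun h' => ?_, fun h' => absurd ⟨x, h', rfl⟩ hx⟩
        have : φ ⬝ᵥ (g.1 *ᵥ x + (φ ⬝ᵥ g.1 *ᵥ x) • e0 F N) = 0 := hφ0 _ (Submodule.mem_sup_left h')
        rw [dotProduct_add, dotProduct_smul, hφe, smul_zero, add_zero] at this
        rw [this, zero_smul, add_zero] at h'
        exact absurd h' hx
    rw [hreg, AddSubgroup.mem_bot] at hmem
    have hφ : φ = 0 := by
      rw [← Fin.cons_self_tail φ, hmem]
      have h0 : φ 0 = 0 := by simpa [e0, dotProduct, Fin.sum_univ_succ] using hφe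
      funext i; cases i using Fin.cases <;> simp [h0]
    rw [hφ, zero_dotProduct] at hφy
    exact zero_ne_one hφy
  -- so `T` is a hyperplane
  set x1 := (g⁻¹).1 *ᵥ e0 F N
  have hx1 : x1 ∉ T := fun h => heU ⟨x1, h, mulVec_inv_mulVec g _⟩
  obtain ⟨lam, hl1, hl0⟩ := sep _ hx1
  have hlam : lam ≠ 0 := fun h => zero_ne_one (by rw [← hl1, h, zero_dotProduct])
  have hdec : ∀ x, x - (lam ⬝ᵥ x) • x1 ∈ T := by
    intro x
    have hx : g.1 *ᵥ x ∈ U ⊔ Submodule.span F {e0 F N} := hcompl ▸ Submodule.mem_top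
    obtain ⟨y, hy, z, hz, hyz⟩ := Submodule.mem_sup.1 hx
    obtain ⟨w, hw, rfl⟩ := hy
    obtain ⟨c, rfl⟩ := Submodule.mem_span_singleton.1 hz
    have hxe : x = w + c • x1 := by
      apply mulVec_injective g
      show g.1 *ᵥ x = g.1 *ᵥ (w + c • x1)
      rw [mulVec_add, mulVec_smul, mulVec_inv_mulVec, ← hyz]; rfl
    have hc : lam ⬝ᵥ x = c := by
      rw [hxe, dotProduct_add, hl0 w hw, dotProduct_smul, hl1, smul_eq_mul, mul_one, zero_add]
    rw [hc, hxe, add_sub_cancel_right]; exact hw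
  let S := (MulAction.stabilizer G (Projectivization.mk F lam hlam)).comap dualHom
  have hKS : K ≤ S := by
    intro k hk
    rw [Subgroup.mem_comap, MulAction.mem_stabilizer_iff, Projectivization.smul_mk,
      Projectivization.mk_eq_mk_iff']
    refine ⟨(lam ᵥ* (k⁻¹).1) ⬝ᵥ x1, funext fun i => ?_⟩
    rw [dualHom_smul]
    set μ := lam ᵥ* (k⁻¹).1
    have hμ : ∀ y ∈ T, μ ⬝ᵥ y = 0 := fun y hy => by
      rw [← dotProduct_mulVec]; exact hl0 _ ((K.inv_mem hk y).2 hy)
    have h := hμ _ (hdec (Pi.single i 1))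
    rw [dotProduct_sub, dotProduct_smul, dotProduct_single, dotProduct_single, smul_eq_mul,
      mul_one, mul_one, sub_eq_zero] at h
    rw [h, Pi.smul_apply, smul_eq_mul, mul_comm]
  have := Nat.le_of_dvd (Nat.pos_of_ne_zero Subgroup.index_ne_zero_of_finite)
    (Subgroup.index_dvd_of_le hKS)
  rw [Subgroup.index_comap_of_surjective _ dualHom_surjective, index_stabilizer_proj,
    card_projectivization] at this
  omega

/-- The minimal index of a proper subgroup of `SL_{N+1}(q)`. -/
theorem SL_index_ge (hN : 2 ≤ N) (hexc : ¬ (N = 3 ∧ Nat.card F = 2)) (H : Subgroup G) (hH : H ≠ ⊤) :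
    bound ≤ H.index := by
  by_contra hlt
  push Not at hlt
  by_cases hfix : ∃ ω : G ⧸ H, stabEl H ω = ⊤
  · obtain ⟨ω, hω⟩ := hfix
    exact false_of_fixed hN H hH hlt ω hω
  push Not at hfix
  obtain ⟨χ, hχ⟩ := exists_addChar_ne_one F
  have : Nontrivial (Fin (N + 1)) := Fin.nontrivial_iff_two_le.2 (by omega)
  rcases orbit_cases H χ hχ hN hlt _ (hfix ((1 : G) : G ⧸ H)) with h1 | hline
  swap
  · exact false_of_lineType hN H hline
  have hreg : ∀ ω, stabEl H ω = ⊥ := by
    intro ω
    rcases orbit_cases H χ hχ hN hlt _ (hfix ω) with h | hline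
    · exact h
    · exact (false_of_lineType hN H hline).elim
  refine false_of_regular H hN hexc hreg fun ω ω' => ?_
  by_contra hne
  push Not at hne
  have h2 := two_regular_le H (hreg ω) (hreg ω') hne
  have := geom_lt_pow (F := F) N
  rw [Finset.sum_range_succ] at hlt
  omega

/-- The minimal index of a proper subgroup of `PSL_n(q)` and a subgroup attaining it. -/
theorem PSL_min_index {n : ℕ} (hn : 3 ≤ n) (hexc : ¬ (n = 4 ∧ Nat.card F = 2)) :
    (∀ H : Subgroup (ProjectiveSpecialLinearGroup (Fin n) F), H ≠ ⊤ →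
      ∑ i ∈ Finset.range n, Nat.card F ^ i ≤ H.index) ∧
    ∃ H : Subgroup (ProjectiveSpecialLinearGroup (Fin n) F),
      H.index = ∑ i ∈ Finset.range n, Nat.card F ^ i := by
  obtain ⟨N, rfl⟩ : ∃ N, n = N + 1 := ⟨n - 1, by omega⟩
  have hs := QuotientGroup.mk'_surjective (Subgroup.center (Matrix.SpecialLinearGroup (Fin (N + 1)) F))
  refine ⟨fun H hH => ?_, ?_⟩
  · rw [← Subgroup.index_comap_of_surjective H hs]
    refine SL_index_ge (by omega) (fun h => hexc ⟨by omega, h.2⟩) _ fun h => hH ?_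
    rw [← Subgroup.map_comap_eq_self_of_surjective hs H, h, Subgroup.map_top_of_surjective _ hs]
  · have he : e0 F N ≠ 0 := e0_ne_zero
    refine ⟨(MulAction.stabilizer (Matrix.SpecialLinearGroup (Fin (N + 1)) F) (Projectivization.mk F (e0 F N) he)).map
      (QuotientGroup.mk' _), ?_⟩
    rw [Subgroup.index_map_eq _ hs, index_stabilizer_proj, card_projectivization]
    rw [QuotientGroup.ker_mk', ← Projectivization.SL_mulAction_ker (K := F) (ι := Fin (N + 1))]
    intro z hz
    rw [MulAction.mem_stabilizer_iff]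
    have := Equiv.Perm.ext_iff.1 hz (Projectivization.mk F (e0 F N) he)
    simpa using this

end CfsgLib.MinIndexPSL
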