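import Cfsg.Agent.Lib.MinIndexPSL.Basic
import Cfsg.Agent.Lib.Linear.Simple

/-!
Orbits of the elation group `Q = {1 + e₀ φ}` of `SL_{N+1}(q)` in a faithful transitive action of
small degree: either every point stabiliser in `Q` is a hyperplane, or the moving orbit is regular.
-/

set_option autoImplicit false
set_option linter.unusedSectionVars false
set_option linter.unusedSimpArgs false

namespace CfsgLib.MinIndexPSL

open Matrix

variable {F : Type*} [Field F] {N : ℕ}

/-- The first basis vector. -/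
def e0 (F : Type*) [Field F] (N : ℕ) : Fin (N + 1) → F := Fin.cons 1 0

theorem e0_ne_zero : e0 F N ≠ 0 := fun h => by simpa [e0] using congrFun h 0

theorem dotProduct_cons (a b : F) (φ x : Fin N → F) :
    (Fin.cons a φ : Fin (N + 1) → F) ⬝ᵥ Fin.cons b x = a * b + φ ⬝ᵥ x := by
  simp [dotProduct, Fin.sum_univ_succ]

/-- The elation with centre `e₀` given by the row `φ`. -/
def el (φ : Fin N → F) : SpecialLinearGroup (Fin (N + 1)) F :=
  tv (e0 F N) (Fin.cons 0 φ) (by rw [e0, dotProduct_cons]; simp)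

theorem el_mul (φ ψ : Fin N → F) : el φ * el ψ = el (φ + ψ) := by
  rw [el, el, tv_mul]
  refine tv_congr rfl ?_
  funext i; cases i using Fin.cases <;> simp

theorem el_zero : el (0 : Fin N → F) = 1 := by
  have h : (Fin.cons 0 (0 : Fin N → F) : Fin (N + 1) → F) = 0 := by
    funext i; cases i using Fin.cases <;> simp
  exact (tv_congr rfl h).trans (tv_zero_right _ (zero_dotProduct _))

theorem el_inv (φ : Fin N → F) : (el φ)⁻¹ = el (-φ) :=
  inv_eq_of_mul_eq_one_right (by rw [el_mul, add_neg_cancel, el_zero])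

theorem el_injective : Function.Injective (el : (Fin N → F) → _) := fun φ ψ h => by
  funext i
  have := congrFun (congrFun (congrArg Subtype.val h) 0) i.succ
  simpa [el, tv_coe, e0, vecMulVec_apply, one_apply, Fin.succ_ne_zero, (Fin.succ_ne_zero i).symm]
    using this

/-- Every transvection with centre `e₀` is an elation `el φ`. -/
theorem tv_e0_eq_el (ψ : Fin (N + 1) → F) (h : ψ ⬝ᵥ e0 F N = 0) :
    tv (e0 F N) ψ h = el (Fin.tail ψ) := by
  refine tv_congr rfl ?_
  have h0 : ψ 0 = 0 := by simpa [e0, dotProduct, Fin.sum_univ_succ] using h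
  funext i; cases i using Fin.cases <;> simp [h0, Fin.tail]

/-- The matrix `diag(1, A)`. -/
def levMat (A : Matrix (Fin N) (Fin N) F) : Matrix (Fin (N + 1)) (Fin (N + 1)) F :=
  Matrix.of (Fin.cons (Fin.cons 1 0) fun i => Fin.cons 0 (A i))

theorem levMat_mulVec (A : Matrix (Fin N) (Fin N) F) (a : F) (x : Fin N → F) :
    levMat A *ᵥ Fin.cons a x = Fin.cons a (A *ᵥ x) := by
  funext i
  cases i using Fin.cases <;> simp [levMat, mulVec, dotProduct, Fin.sum_univ_succ]

theorem vecMul_levMat (A : Matrix (Fin N) (Fin N) F) (a : F) (x : Fin N → F) :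
    Fin.cons a x ᵥ* levMat A = Fin.cons a (x ᵥ* A) := by
  funext i
  cases i using Fin.cases <;> simp [levMat, vecMul, dotProduct, Fin.sum_univ_succ]

theorem levMat_det (A : Matrix (Fin N) (Fin N) F) : (levMat A).det = A.det := by
  rw [det_succ_row_zero, Fin.sum_univ_succ]
  simp [levMat, Fin.succAbove_zero]
  congr 1

/-- The Levi embedding `SL_N → SL_{N+1}`. -/
def lev : SpecialLinearGroup (Fin N) F →* SpecialLinearGroup (Fin (N + 1)) F where
  toFun A := ⟨levMat A.1, by rw [levMat_det]; exact A.2⟩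
  map_one' := Subtype.ext <| by
    show levMat (1 : Matrix (Fin N) (Fin N) F) = 1
    ext i j
    cases i using Fin.cases <;> cases j using Fin.cases <;>
      simp [levMat, one_apply, Fin.succ_ne_zero, (Fin.succ_ne_zero _).symm]
  map_mul' A B := Subtype.ext <| by
    show levMat (A.1 * B.1) = levMat A.1 * levMat B.1
    ext i j
    cases i using Fin.cases <;> cases j using Fin.cases <;>
      simp [levMat, Matrix.mul_apply, Fin.sum_univ_succ]

theorem lev_coe (A : SpecialLinearGroup (Fin N) F) : (lev A).1 = levMat A.1 := rfl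

theorem lev_conj_el (A : SpecialLinearGroup (Fin N) F) (φ : Fin N → F) :
    lev A * el φ * (lev A)⁻¹ = el (φ ᵥ* (A⁻¹).1) := by
  rw [el, el, tv_conj]
  refine tv_congr ?_ ?_
  · rw [lev_coe, e0, levMat_mulVec, mulVec_zero]
  · rw [← map_inv, lev_coe, vecMul_levMat]

variable (H : Subgroup (SpecialLinearGroup (Fin (N + 1)) F))

local notation "Ω" => SpecialLinearGroup (Fin (N + 1)) F ⧸ H

/-- The parameters of elations fixing a point. -/
def stabEl (ω : Ω) : AddSubgroup (Fin N → F) where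
  carrier := {φ | el φ • ω = ω}
  add_mem' {a b} ha hb := by
    show el (a + b) • ω = ω
    rw [← el_mul, mul_smul, show el b • ω = ω from hb, show el a • ω = ω from ha]
  zero_mem' := by
    show el 0 • ω = ω
    rw [el_zero, one_smul]
  neg_mem' {a} ha := by
    show el (-a) • ω = ω
    rw [← el_inv, inv_smul_eq_iff]
    exact (show el a • ω = ω from ha).symm

theorem mem_stabEl {ω : Ω} {φ : Fin N → F} : φ ∈ stabEl H ω ↔ el φ • ω = ω := Iff.rfl

theorem stabEl_el_smul (φ : Fin N → F) (ω : Ω) : stabEl H (el φ • ω) = stabEl H ω := by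
  ext ψ
  rw [mem_stabEl, mem_stabEl, ← mul_smul, el_mul, add_comm ψ φ, ← el_mul, mul_smul, smul_left_cancel_iff]

theorem mem_stabEl_lev_smul (A : SpecialLinearGroup (Fin N) F) (ω : Ω) (φ : Fin N → F) :
    φ ∈ stabEl H (lev A • ω) ↔ φ ᵥ* A.1 ∈ stabEl H ω := by
  rw [mem_stabEl, mem_stabEl]
  have h : el φ * lev A = lev A * el (φ ᵥ* A.1) := by
    have := lev_conj_el A (φ ᵥ* A.1)
    rw [vecMul_vecMul_inv] at this
    rw [← this, inv_mul_cancel_right]
  rw [← mul_smul, h, mul_smul, smul_left_cancel_iff]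

variable (χ : AddChar F ℂ)

/-- The dual of a point stabiliser under the pairing `χ (φ ⬝ y)`. -/
def ann (ω : Ω) : AddSubgroup (Fin N → F) where
  carrier := {y | ∀ φ ∈ stabEl H ω, χ (φ ⬝ᵥ y) = 1}
  add_mem' {a b} ha hb φ hφ := by
    rw [dotProduct_add, AddChar.map_add_eq_mul, ha φ hφ, hb φ hφ, one_mul]
  zero_mem' φ _ := by rw [dotProduct_zero, AddChar.map_zero_eq_one]
  neg_mem' {a} ha φ hφ := by
    rw [dotProduct_neg, AddChar.map_neg_eq_inv, ha φ hφ, inv_one]

theorem mem_ann {ω : Ω} {y : Fin N → F} :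
    y ∈ ann H χ ω ↔ ∀ φ ∈ stabEl H ω, χ (φ ⬝ᵥ y) = 1 := Iff.rfl

theorem ann_el_smul (φ : Fin N → F) (ω : Ω) : ann H χ (el φ • ω) = ann H χ ω := by
  ext y; simp only [mem_ann, stabEl_el_smul]

theorem mem_ann_lev_smul (A : SpecialLinearGroup (Fin N) F) (ω : Ω) (y : Fin N → F) :
    y ∈ ann H χ (lev A • ω) ↔ (A⁻¹).1 *ᵥ y ∈ ann H χ ω := by
  simp only [mem_ann, mem_stabEl_lev_smul]
  constructor
  · intro h φ hφ
    rw [dotProduct_mulVec]
    exact h _ (by rwa [vecMul_inv_vecMul])
  · intro h φ hφ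
    have := h _ hφ
    rwa [dotProduct_mulVec, vecMul_vecMul_inv] at this

variable [Finite F] (hχ : χ ≠ 1)

include hχ in
theorem eq_zero_of_forall_char {φ : Fin N → F} (h : ∀ y : Fin N → F, χ (φ ⬝ᵥ y) = 1) : φ = 0 := by
  by_contra hne
  obtain ⟨i, hi⟩ : ∃ i, φ i ≠ 0 := by
    by_contra hh; push Not at hh; exact hne (funext hh)
  apply hχ
  refine DFunLike.ext _ _ fun t => ?_
  have := h (Pi.single i (t / φ i))
  rwa [dotProduct_single, mul_div_cancel₀ _ hi] at this

include hχ in
theorem card_ann (ω : Ω) :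
    Nat.card (ann H χ ω) = Nat.card ((Fin N → F) ⧸ stabEl H ω) := by
  classical
  have : Fintype (Fin N → F) := Fintype.ofFinite _
  let Φ : (Fin N → F) → AddChar (Fin N → F) ℂ := fun y =>
    { toFun := fun φ => χ (φ ⬝ᵥ y)
      map_zero_eq_one' := by simp
      map_add_eq_mul' := fun a b => by rw [add_dotProduct, AddChar.map_add_eq_mul] }
  have hinj : Function.Injective Φ := by
    intro y z h
    rw [← sub_eq_zero]
    refine eq_zero_of_forall_char χ hχ fun φ => ?_
    have := DFunLike.congr_fun h φ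
    rw [dotProduct_comm, dotProduct_sub, AddChar.map_sub_eq_div]
    rw [show χ (φ ⬝ᵥ y) = χ (φ ⬝ᵥ z) from this]
    exact div_self (χ.val_isUnit _).ne_zero
  have hbij : Function.Bijective Φ :=
    (Fintype.bijective_iff_injective_and_card _).2 ⟨hinj, AddChar.card_eq.symm⟩
  let π := QuotientAddGroup.mk' (stabEl H ω)
  let T : ann H χ ω → AddChar ((Fin N → F) ⧸ stabEl H ω) ℂ := fun y =>
    { toFun := Quotient.lift (fun φ => χ (φ ⬝ᵥ y.1)) (by
        intro a b hab
        have hab' : -a + b ∈ stabEl H ω := QuotientAddGroup.leftRel_apply.1 hab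
        have h1 := y.2 _ hab'
        show χ (a ⬝ᵥ y.1) = χ (b ⬝ᵥ y.1)
        calc χ (a ⬝ᵥ y.1) = χ (a ⬝ᵥ y.1) * χ ((-a + b) ⬝ᵥ y.1) := by rw [h1, mul_one]
          _ = χ (b ⬝ᵥ y.1) := by
            rw [← AddChar.map_add_eq_mul, ← add_dotProduct, add_neg_cancel_left])
      map_zero_eq_one' := by
        show χ ((0 : Fin N → F) ⬝ᵥ y.1) = 1
        simp
      map_add_eq_mul' := by
        intro a b
        induction a using QuotientAddGroup.induction_on with
        | _ a =>
          induction b using QuotientAddGroup.induction_on with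
          | _ b =>
            show χ ((a + b) ⬝ᵥ y.1) = χ (a ⬝ᵥ y.1) * χ (b ⬝ᵥ y.1)
            rw [add_dotProduct, AddChar.map_add_eq_mul] }
  have hT : Function.Bijective T := by
    constructor
    · intro y z h
      refine Subtype.ext (hinj (DFunLike.ext _ _ fun φ => ?_))
      exact DFunLike.congr_fun h (π φ)
    · intro c
      obtain ⟨y, hy⟩ := hbij.2 (c.compAddMonoidHom π)
      have hy' : ∀ φ, χ (φ ⬝ᵥ y) = c (π φ) := fun φ => DFunLike.congr_fun hy φ
      refine ⟨⟨y, fun φ hφ => ?_⟩, DFunLike.ext _ _ fun x => ?_⟩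
      · rw [hy', show π φ = 0 from (QuotientAddGroup.eq_zero_iff φ).2 hφ, AddChar.map_zero_eq_one]
      · induction x using QuotientAddGroup.induction_on with
        | _ φ => exact hy' φ
  rw [Nat.card_congr (Equiv.ofBijective T hT)]
  have : Fintype ((Fin N → F) ⧸ stabEl H ω) := Fintype.ofFinite _
  rw [Nat.card_eq_fintype_card, Nat.card_eq_fintype_card]
  exact AddChar.card_eq

theorem card_pi (M : ℕ) : Nat.card (Fin M → F) = Nat.card F ^ M := by rw [Nat.card_fun, Nat.card_fin]

theorem card_pi_eq_geom (M : ℕ) :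
    Nat.card F ^ M = (Nat.card F - 1) * (∑ i ∈ Finset.range M, Nat.card F ^ i) + 1 := by
  have hq : 2 ≤ Nat.card F := Finite.one_lt_card
  induction M with
  | zero => simp
  | succ M ih =>
    rw [Finset.sum_range_succ, mul_add]
    calc Nat.card F ^ (M + 1) = (Nat.card F - 1) * Nat.card F ^ M + Nat.card F ^ M := by
          rw [pow_succ, ← Nat.succ_mul, Nat.succ_eq_add_one, Nat.sub_add_cancel (by omega), mul_comm]
      _ = _ := by omega

theorem geom_lt_pow (M : ℕ) : ∑ i ∈ Finset.range M, Nat.card F ^ i < Nat.card F ^ M := by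
  have hq : 2 ≤ Nat.card F := Finite.one_lt_card
  have := card_pi_eq_geom (F := F) M
  have h1 : (1 : ℕ) * ∑ i ∈ Finset.range M, Nat.card F ^ i ≤
      (Nat.card F - 1) * ∑ i ∈ Finset.range M, Nat.card F ^ i :=
    Nat.mul_le_mul_right _ (by omega)
  omega

/-- Two points with trivial stabiliser in different orbits force degree `2 q^N`. -/
theorem two_regular_le {ω ω' : Ω} (h : stabEl H ω = ⊥) (h' : stabEl H ω' = ⊥)
    (hdiff : ∀ φ : Fin N → F, el φ • ω ≠ ω') : 2 * Nat.card F ^ N ≤ H.index := by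
  have hinj : ∀ {w : Ω}, stabEl H w = ⊥ → Function.Injective fun φ : Fin N → F => el φ • w := by
    intro w hw φ ψ e
    have : -ψ + φ ∈ stabEl H w := by
      rw [mem_stabEl, ← el_mul, mul_smul, show el φ • w = el ψ • w from e, ← mul_smul, el_mul,
        neg_add_cancel, el_zero, one_smul]
    rw [hw, AddSubgroup.mem_bot] at this
    exact (eq_of_sub_eq_zero (by rw [sub_eq_neg_add]; exact this))
  let g : (Fin N → F) ⊕ (Fin N → F) → Ω := Sum.elim (fun φ => el φ • ω) fun φ => el φ • ω'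
  have hg : Function.Injective g := by
    refine (hinj h).sumElim (hinj h') fun φ ψ e => hdiff (-ψ + φ) ?_
    rw [← el_mul, mul_smul, show el φ • ω = el ψ • ω' from e, ← mul_smul, el_mul, neg_add_cancel,
      el_zero, one_smul]
  have := Nat.card_le_card_of_injective g hg
  rw [Nat.card_sum, card_pi] at this
  calc 2 * Nat.card F ^ N = Nat.card F ^ N + Nat.card F ^ N := two_mul _
    _ ≤ _ := this

include hχ in
/-- Below degree `(q^(N+1) - 1)/(q - 1)`, a moved point either generates line-type stabilisers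
everywhere or has trivial stabiliser. -/
theorem orbit_cases (hN : 2 ≤ N) (hd : H.index < ∑ i ∈ Finset.range (N + 1), Nat.card F ^ i)
    (ω : Ω) (hω : stabEl H ω ≠ ⊤) :
    stabEl H ω = ⊥ ∨
      ∀ ω' : Ω, ∃ v : Fin N → F, v ≠ 0 ∧ ∀ φ, φ ∈ stabEl H ω' ↔ φ ⬝ᵥ v = 0 := by
  classical
  have hnt : Nontrivial (Fin N) := Fin.nontrivial_iff_two_le.2 hN
  have : Fintype F := Fintype.ofFinite F
  have : Fintype (SpecialLinearGroup (Fin N) F) := Fintype.ofFinite _
  set W0 := ann H χ ω with hW0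
  let Wf : SpecialLinearGroup (Fin N) F → AddSubgroup (Fin N → F) := fun A => ann H χ (lev A • ω)
  let 𝒲 : Finset (AddSubgroup (Fin N → F)) := Finset.univ.image Wf
  have h1W : ∀ A, Wf A ∈ 𝒲 := fun A => Finset.mem_image_of_mem _ (Finset.mem_univ A)
  have hcardW : ∀ A, Nat.card (Wf A) = Nat.card W0 := fun A =>
    Nat.card_congr
      { toFun := fun y => ⟨(A⁻¹).1 *ᵥ y.1, (mem_ann_lev_smul H χ A ω y.1).1 y.2⟩
        invFun := fun y => ⟨A.1 *ᵥ y.1, (mem_ann_lev_smul H χ A ω _).2 (by
          rw [inv_mulVec_mulVec]; exact y.2)⟩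
        left_inv := fun y => Subtype.ext (mulVec_inv_mulVec A _)
        right_inv := fun y => Subtype.ext (inv_mulVec_mulVec A _) }
  -- the orbits
  have hrep : ∀ W : 𝒲, ∃ A, Wf A = W.1 := fun W => by
    obtain ⟨A, -, h⟩ := Finset.mem_image.1 W.2
    exact ⟨A, h⟩
  choose rep hrep using hrep
  let g : (Σ W : 𝒲, (Fin N → F) ⧸ stabEl H (lev (rep W) • ω)) → Ω :=
    fun x => el x.2.out • lev (rep x.1) • ω
  have hg : Function.Injective g := by
    rintro ⟨W, a⟩ ⟨W', b⟩ h
    have h' : el a.out • lev (rep W) • ω = el b.out • lev (rep W') • ω := h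
    have hW : W = W' := by
      apply Subtype.ext
      have := congrArg (ann H χ) h'
      rw [ann_el_smul, ann_el_smul] at this
      rw [← hrep W, ← hrep W']
      exact this
    subst hW
    congr 1
    rw [← QuotientAddGroup.out_eq' a, ← QuotientAddGroup.out_eq' b, QuotientAddGroup.eq,
      mem_stabEl, ← el_mul, mul_smul, ← h', ← mul_smul, el_mul, neg_add_cancel, el_zero, one_smul]
  have hsum : Nat.card (Σ W : 𝒲, (Fin N → F) ⧸ stabEl H (lev (rep W) • ω)) =
      𝒲.card * Nat.card W0 := by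
    rw [Nat.card_sigma, Finset.sum_congr rfl fun W _ => ?_, Finset.sum_const, smul_eq_mul]
    · rw [Finset.card_univ, Fintype.card_coe]
    · show _ = Nat.card W0
      rw [← card_ann H χ hχ, ← hcardW (rep W)]
  have hle : 𝒲.card * Nat.card W0 ≤ H.index := hsum ▸ Nat.card_le_card_of_injective g hg
  -- every nonzero vector occurs equally often
  let mult : (Fin N → F) → ℕ := fun y => (𝒲.filter fun W => y ∈ W).card
  let S0 : Finset (Fin N → F) := Finset.univ.filter fun y => y ≠ 0
  have hS0 : S0.card = Nat.card F ^ N - 1 := by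
    simp [S0, Finset.filter_ne', Finset.card_erase_of_mem]
  have hW0gt : 1 < Nat.card W0 := by
    rw [hW0, card_ann H χ hχ]
    have : Nontrivial ((Fin N → F) ⧸ stabEl H ω) := by
      obtain ⟨φ, hφ⟩ : ∃ φ, φ ∉ stabEl H ω := by
        by_contra h; push Not at h; exact hω (eq_top_iff.2 fun φ _ => h φ)
      exact ⟨⟨φ, 0, fun e => hφ ((QuotientAddGroup.eq_zero_iff φ).1 e)⟩⟩
    exact Finite.one_lt_card
  have htot : ∑ y ∈ S0, mult y = 𝒲.card * (Nat.card W0 - 1) := by
    simp only [mult, Finset.card_filter]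
    rw [Finset.sum_comm, Finset.sum_congr rfl fun W hW => ?_, Finset.sum_const, smul_eq_mul]
    obtain ⟨A, -, rfl⟩ := Finset.mem_image.1 hW
    show _ = Nat.card W0 - 1
    rw [← Finset.card_filter, ← hcardW A, Nat.card_eq_fintype_card,
      Fintype.card_of_subtype (Finset.univ.filter fun y => y ∈ Wf A) (by simp),
      show S0.filter (fun y => y ∈ Wf A) = (Finset.univ.filter fun y => y ∈ Wf A).erase 0 from by
        ext y; simp [S0, and_comm],
      Finset.card_erase_of_mem (by simp [AddSubgroup.zero_mem])]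
  have hconst : ∀ y ∈ S0, ∀ z ∈ S0, mult y ≤ mult z := by
    intro y hy z hz
    simp only [S0, Finset.mem_filter, Finset.mem_univ, true_and] at hy hz
    obtain ⟨B, rfl⟩ := exists_mulVec_eq hy hz
    let T : AddSubgroup (Fin N → F) → AddSubgroup (Fin N → F) := fun W =>
      W.map (B.1.mulVecLin.toAddMonoidHom)
    have hT : ∀ A, T (Wf A) = Wf (B * A) := fun A => by
      ext x
      simp only [T, AddSubgroup.mem_map, Wf, mem_ann_lev_smul]
      constructor
      · rintro ⟨w, hw, rfl⟩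
        show ((B * A)⁻¹).1 *ᵥ (B.1 *ᵥ w) ∈ _
        rwa [_root_.mul_inv_rev, cmul, ← mulVec_mulVec, inv_mulVec_mulVec]
      · intro hx
        refine ⟨(B⁻¹).1 *ᵥ x, ?_, mulVec_inv_mulVec B x⟩
        rwa [_root_.mul_inv_rev, cmul, ← mulVec_mulVec] at hx
    refine Finset.card_le_card_of_injOn T (fun W hW => ?_) ?_
    · simp only [Finset.coe_filter, Set.mem_ofPred_eq] at hW ⊢
      obtain ⟨A, -, rfl⟩ := Finset.mem_image.1 hW.1
      exact ⟨hT A ▸ h1W _, ⟨y, hW.2, rfl⟩⟩
    · exact (AddSubgroup.map_injective (f := B.1.mulVecLin.toAddMonoidHom)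
        (mulVec_injective B)).injOn
  obtain ⟨v, hvW, hv⟩ : ∃ v ∈ W0, v ≠ (0 : Fin N → F) := by
    by_contra h
    push Not at h
    have : W0 = ⊥ := eq_bot_iff.2 fun y hy => AddSubgroup.mem_bot.2 (h y hy)
    rw [this, AddSubgroup.card_bot] at hW0gt
    omega
  have hWf1 : Wf 1 = W0 := by simp [Wf, hW0]
  have hvS : v ∈ S0 := by simp [S0, hv]
  have hmv : 1 ≤ mult v := Finset.card_pos.2 ⟨W0, by simp [hWf1 ▸ h1W 1, hvW]⟩
  have hc1 : 1 ≤ 𝒲.card := Finset.card_pos.2 ⟨_, h1W 1⟩
  have hq : 2 ≤ Nat.card F := Finite.one_lt_card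
  have hP : ∑ i ∈ Finset.range (N + 1), Nat.card F ^ i =
      Nat.card F ^ N + ∑ i ∈ Finset.range N, Nat.card F ^ i := by
    rw [Finset.sum_range_succ, add_comm]
  have hlt := geom_lt_pow (F := F) N
  have hsplit : 𝒲.card * (Nat.card W0 - 1) + 𝒲.card = 𝒲.card * Nat.card W0 := by
    rw [← Nat.mul_add_one, Nat.sub_add_cancel (by omega)]
  -- partition
  by_cases h2 : 2 ≤ mult v
  · exfalso
    have : S0.card * 2 ≤ 𝒲.card * (Nat.card W0 - 1) := by
      rw [← htot]
      exact Finset.card_nsmul_le_sum S0 mult 2 fun y hy => h2.trans (hconst v hvS y hy)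
    rw [hS0] at this
    have : 1 ≤ Nat.card F ^ N := Nat.one_le_pow _ _ (by omega)
    omega
  have hm1 : ∀ y ∈ S0, mult y = 1 := fun y hy => by
    have := hconst v hvS y hy
    have := hconst y hy v hvS
    omega
  have huniq : ∀ A, ∀ y, y ≠ 0 → y ∈ W0 → y ∈ Wf A → Wf A = W0 := fun A y hy h0 hA => by
    have := Finset.card_le_one.1 (hm1 y (by simp [S0, hy])).le (Wf A) (by simp [h1W, hA]) W0
      (by simp [hWf1 ▸ h1W 1, h0])
    exact this
  have hinv : ∀ (A : SpecialLinearGroup (Fin N) F) (y z : Fin N → F), y ≠ 0 → y ∈ W0 → z ∈ W0 →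
      A.1 *ᵥ y = y → A.1 *ᵥ z ∈ W0 := by
    intro A y z hy hyW hzW hA
    rw [← huniq A y hy hyW ((mem_ann_lev_smul H χ A ω y).2 (by
      rw [show (A⁻¹).1 *ᵥ y = y by conv_lhs => rw [← hA, inv_mulVec_mulVec]]; exact hyW))]
    exact (mem_ann_lev_smul H χ A ω _).2 (by rwa [inv_mulVec_mulVec])
  rw [htot.symm.trans (Finset.sum_const_nat hm1)] at hsplit
  rw [mul_one] at hsplit
  by_cases hline : ∀ w ∈ W0, w ∈ Submodule.span F {v}
  · refine Or.inr ?_
    have hWq : Nat.card W0 ≤ Nat.card F := by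
      choose c hc using fun w : W0 => Submodule.mem_span_singleton.1 (hline w.1 w.2)
      refine Nat.card_le_card_of_injective c fun a b h => Subtype.ext ?_
      rw [← hc a, ← hc b, h]
    have hcP : (∑ i ∈ Finset.range N, Nat.card F ^ i) ≤ 𝒲.card := by
      have h1 : 𝒲.card * (Nat.card W0 - 1) = S0.card :=
        htot.symm.trans ((Finset.sum_const_nat hm1).trans (mul_one _))
      have h2 : 𝒲.card * (Nat.card W0 - 1) ≤ 𝒲.card * (Nat.card F - 1) :=
        Nat.mul_le_mul_left _ (by omega)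
      rw [h1, hS0, card_pi_eq_geom, Nat.add_sub_cancel, mul_comm] at h2
      exact Nat.le_of_mul_le_mul_right h2 (by omega)
    rw [hS0] at hsplit
    have hpos : 1 ≤ Nat.card F ^ N := Nat.one_le_pow _ _ (by omega)
    have hd' : H.index = 𝒲.card * Nat.card W0 := by omega
    have hWeq : Nat.card W0 = Nat.card F := by
      have h1 : 𝒲.card * (Nat.card W0 - 1) = S0.card :=
        htot.symm.trans ((Finset.sum_const_nat hm1).trans (mul_one _))
      rw [hS0, card_pi_eq_geom, Nat.add_sub_cancel,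
        show (∑ i ∈ Finset.range N, Nat.card F ^ i) = 𝒲.card by omega, mul_comm 𝒲.card] at h1
      have := Nat.eq_of_mul_eq_mul_right (by omega) h1
      omega
    intro ω'
    have hsurj : Function.Surjective g := by
      have : Fintype Ω := Fintype.ofFinite _
      have : Fintype (Σ W : 𝒲, (Fin N → F) ⧸ stabEl H (lev (rep W) • ω)) := Fintype.ofFinite _
      refine ((Fintype.bijective_iff_injective_and_card g).2 ⟨hg, ?_⟩).2
      rw [← Nat.card_eq_fintype_card, ← Nat.card_eq_fintype_card, hsum, ← hd']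
      rfl
    obtain ⟨⟨W, cl⟩, rfl⟩ := hsurj ω'
    refine ⟨(rep W).1 *ᵥ v, mulVec_ne_zero _ hv, ?_⟩
    have hsub : ∀ φ ∈ stabEl H (g ⟨W, cl⟩), φ ⬝ᵥ ((rep W).1 *ᵥ v) = 0 := by
      intro φ hφ
      rw [show stabEl H (g ⟨W, cl⟩) = stabEl H (lev (rep W) • ω) from stabEl_el_smul H _ _,
        mem_stabEl_lev_smul] at hφ
      by_contra hne
      apply hχ
      refine DFunLike.ext _ _ fun t => ?_
      -- the line is all of `W0`
      have hall : ∀ s : F, s • v ∈ W0 := by
        choose c hc using fun w : W0 => Submodule.mem_span_singleton.1 (hline w.1 w.2)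
        have hci : Function.Injective c := fun a b h => Subtype.ext (by rw [← hc a, ← hc b, h])
        have : Fintype W0 := Fintype.ofFinite _
        have hcb := ((Fintype.bijective_iff_injective_and_card c).2 ⟨hci, by
          rw [← Nat.card_eq_fintype_card, ← Nat.card_eq_fintype_card, hWeq]⟩).2
        intro s
        obtain ⟨w, rfl⟩ := hcb s
        rw [hc]; exact w.2
      have := (mem_ann H χ).1 (hall (t / (φ ⬝ᵥ ((rep W).1 *ᵥ v)))) _ hφ
      rwa [dotProduct_smul, ← dotProduct_mulVec, smul_eq_mul, div_mul_cancel₀ _ hne] at this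
    intro φ
    refine ⟨hsub φ, fun hφ => ?_⟩
    -- compare cardinalities
    let L : (Fin N → F) →+ F :=
      { toFun := fun ψ => ψ ⬝ᵥ ((rep W).1 *ᵥ v)
        map_zero' := zero_dotProduct _
        map_add' := fun x y => add_dotProduct x y _ }
    have hLle : stabEl H (g ⟨W, cl⟩) ≤ L.ker := fun ψ hψ => hsub ψ hψ
    have hLs : Function.Surjective L := by
      intro s
      obtain ⟨i, hi⟩ : ∃ i, ((rep W).1 *ᵥ v) i ≠ 0 := by
        by_contra hh; push Not at hh; exact mulVec_ne_zero (rep W) hv (funext hh)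
      refine ⟨Pi.single i (s / ((rep W).1 *ᵥ v) i), ?_⟩
      show (Pi.single i _ : Fin N → F) ⬝ᵥ _ = s
      rw [single_dotProduct, div_mul_cancel₀ _ hi]
    have hidx : (stabEl H (g ⟨W, cl⟩)).index = L.ker.index := by
      rw [AddSubgroup.index_ker, AddMonoidHom.range_eq_top.2 hLs, AddSubgroup.card_top,
        AddSubgroup.index_eq_card, ← card_ann H χ hχ,
        show ann H χ (g ⟨W, cl⟩) = Wf (rep W) from ann_el_smul H χ _ _, hcardW, hWeq]
    have heq : stabEl H (g ⟨W, cl⟩) = L.ker := by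
      by_contra hne
      have hlt := AddSubgroup.index_strictAnti (lt_of_le_of_ne hLle hne)
      omega
    rw [heq]; exact hφ
  · push Not at hline
    obtain ⟨w, hwW, hwv⟩ := hline
    have hvw : v ∉ Submodule.span F {w} := fun h => by
      obtain ⟨c, rfl⟩ := Submodule.mem_span_singleton.1 h
      have hc : c ≠ 0 := fun h0 => hv (by rw [h0, zero_smul])
      exact hwv (Submodule.mem_span_singleton.2 ⟨c⁻¹, by rw [smul_smul, inv_mul_cancel₀ hc, one_smul]⟩)
    have hker : ∀ (y z : Fin N → F), y ∈ W0 → z ∈ W0 → y ≠ 0 → ∀ φ : Fin N → F, φ ⬝ᵥ y = 0 →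
        φ ⬝ᵥ z = 1 → ∀ a : Fin N → F, φ ⬝ᵥ a = 0 → a ∈ W0 := by
      intro y z hy hz hy0 φ h1 h2 a ha
      have := hinv (tv a φ ha) y z hy0 hy hz (by rw [tv_mulVec, h1, zero_smul, add_zero])
      rw [tv_mulVec, h2, one_smul] at this
      simpa using W0.sub_mem this hz
    obtain ⟨φ, hφ1, hφ0⟩ := sep _ hwv
    obtain ⟨ψ, hψ1, hψ0⟩ := sep _ hvw
    have hψw : ψ ⬝ᵥ w = 0 := hψ0 w (Submodule.mem_span_singleton_self w)
    have hφv : φ ⬝ᵥ v = 0 := hφ0 v (Submodule.mem_span_singleton_self v)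
    have hw0 : w ≠ 0 := fun h => hwv (h ▸ Submodule.zero_mem _)
    left
    rw [AddSubgroup.eq_bot_iff_forall]
    intro θ hθ
    refine eq_zero_of_forall_char χ hχ fun x => ?_
    suffices x ∈ W0 from this θ hθ
    have h1 : x - (φ ⬝ᵥ x) • w ∈ W0 := hker v w hvW hwW hv φ hφv hφ1 _ (by
      rw [dotProduct_sub, dotProduct_smul, hφ1, smul_eq_mul, mul_one, sub_self])
    have h2 : (φ ⬝ᵥ x) • w ∈ W0 := hker w v hwW hvW hw0 ψ hψw hψ1 _ (by
      rw [dotProduct_smul, hψw, smul_zero])
    simpa using W0.add_mem h1 h2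

end CfsgLib.MinIndexPSL
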